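import Cfsg.Agent.TSp.Orders
import Cfsg.Prelude.Def_CaseTheorems
import Cfsg.Agent.OddOrderLocal.PLengthOne
import Cfsg.Agent.Lib.Cores

/-!
# 3-transposition groups of types `T6`, `T7` are not of characteristic 2 type (helper902)

* `mem_or` : `C(x) = ⟨D_x⟩ ∪ ⟨D_x⟩ x`;
* `core_cases` : `O₂(C(x)) ≤ ⟨x⟩`;
* `not_charTwo_six`, `not_charTwo_seven`.
-/

set_option autoImplicit false

namespace Cfsg.Agent.TSpIso.CharTwo

open Cfsg Cfsg.Agent.SporadicStructure.FischerSpace Cfsg.Agent.ThreeTransPolar.Basic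
open Cfsg.Agent.Fischer160.Inherit hiding Dx
open Cfsg.Agent.Fischer480.Defs hiding FGroup
open Cfsg.Agent.TSp.Basic hiding FGroup
open Cfsg.Agent.TSp.SimpleConn Cfsg.Agent.TSp.Plane Cfsg.Agent.TSp.Count
open Cfsg.Agent.TSp.Perp Cfsg.Agent.TSp.UPlane Cfsg.Agent.TSp.LTrans Cfsg.Agent.TSp.UCount
open Cfsg.Agent.TSp.CL Cfsg.Agent.TSp.Orders

universe u

variable {G : Type u} [Group G] {D : Set G}

/-- `⟨D_x, x⟩ = ⟨D_x⟩ ∪ ⟨D_x⟩ x` -/
theorem mem_or (h : FData D) {x : G} (hx : x ∈ D) {g : G} (hg : g ∈ LL D x) :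
    g ∈ HH D x ∨ g * x ∈ HH D x := by
  have hxx := h.sq x hx
  have hcx : ∀ k ∈ HH D x, k * x = x * k := fun k hk => (commute_of_mem_HH hk).eq
  rw [LL] at hg
  induction hg using Subgroup.closure_induction with
  | mem d hd =>
    by_cases hdx : d = x
    · right; rw [hdx, hxx]; exact one_mem _
    · left; exact mem_HH_of ⟨hd.1, hdx, hd.2.symm⟩
  | one => exact Or.inl (one_mem _)
  | mul a b ha' _ ha hb =>
    have hax : a * x = x * a := by
      have : a ∈ LL D x := ha'
      exact (commute_of_mem_LL this).eq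
    rcases ha with ha | ha <;> rcases hb with hb | hb
    · exact Or.inl (mul_mem ha hb)
    · right; rw [mul_assoc]; exact mul_mem ha hb
    · right
      have e : a * b * x = (a * x) * b := by
        have hbx := hcx b hb
        rw [mul_assoc, hbx, ← mul_assoc]
      rw [e]; exact mul_mem ha hb
    · left
      have e : a * b = (a * x) * (b * x) := by
        have h1 : a * x * (b * x) = a * (x * (b * x)) := mul_assoc _ _ _
        have h2 : x * (b * x) = (b * x) * x := (hcx _ hb).symm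
        rw [h1, h2, mul_assoc b x x, hxx, mul_one]
      rw [e]; exact mul_mem ha hb
  | inv a ha' ha =>
    have hax : a * x = x * a := by
      have : a ∈ LL D x := ha'
      exact (commute_of_mem_LL this).eq
    rcases ha with ha | ha
    · exact Or.inl (inv_mem ha)
    · right
      have e : a⁻¹ * x = (a * x)⁻¹ := by
        rw [hax, mul_inv_rev, h.inv_eq hx]
      rw [e]; exact inv_mem ha

section

variable [Finite G] (F : FGroup D) (hθ : Theta D) (hCL : CLD D) {x : G} (hx : x ∈ D) (FE : FGroup (Eb D x))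

include F hCL hx in
theorem mem_or_of_centralizer {g : G} (hg : g ∈ Subgroup.centralizer ({x} : Set G)) :
    g ∈ HH D x ∨ g * x ∈ HH D x := by
  apply mem_or F.fd hx
  rw [LL_eq_centralizer hCL hx]
  exact hg

theorem HH_le_centralizer (D : Set G) (x : G) : HH D x ≤ Subgroup.centralizer ({x} : Set G) := fun _ hg =>
  Subgroup.mem_centralizer_singleton_iff.2 (commute_of_mem_HH hg).eq

include F hθ hx FE in
/-- a normal 2-subgroup of `C(x)` meets `⟨D_x⟩` in `⟨x⟩` -/
theorem cases_of_mem_HH {P : Subgroup (Subgroup.centralizer ({x} : Set G))} (hn : P.Normal) (h2 : IsPGroup 2 P)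
    {g : Subgroup.centralizer ({x} : Set G)} (hg : g ∈ P) (hgH : (g : G) ∈ HH D x) :
    (g : G) = 1 ∨ (g : G) = x := by
  have : Fact (Nat.Prime 2) := ⟨Nat.prime_two⟩
  let i : HH D x →* Subgroup.centralizer ({x} : Set G) := Subgroup.inclusion (HH_le_centralizer D x)
  let N : Subgroup (HH D x) := P.comap i
  have hN : N.Normal := hn.comap i
  have hN2 : IsPGroup 2 N := h2.comap_of_injective i (Subgroup.inclusion_injective _)
  let π := QuotientGroup.mk' (Subgroup.center (HH D x))
  have hM : (N.map π).Normal := hN.map π (QuotientGroup.mk'_surjective _)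
  have hM2 : IsPGroup 2 (N.map π) := hN2.map π
  have hsol : Group.IsSolvable (N.map π) := by
    have := hM2.isNilpotent
    infer_instance
  have hbot := FE.sol (N.map π) hM hsol
  have h1 : (⟨(g : G), hgH⟩ : HH D x) ∈ N := hg
  have h3 : π ⟨(g : G), hgH⟩ ∈ N.map π := ⟨_, h1, rfl⟩
  rw [hbot, Subgroup.mem_bot] at h3
  have h4 : (⟨(g : G), hgH⟩ : HH D x) ∈ Subgroup.center (HH D x) := (QuotientGroup.eq_one_iff _).1 h3
  exact (mem_center_HH F hθ hx).1 h4

include F hθ hCL hx FE in
/-- `O₂(C(x)) ≤ ⟨x⟩` -/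
theorem core_cases {P : Subgroup (Subgroup.centralizer ({x} : Set G))} (hn : P.Normal) (h2 : IsPGroup 2 P)
    {g : Subgroup.centralizer ({x} : Set G)} (hg : g ∈ P) : (g : G) = 1 ∨ (g : G) = x := by
  have : Fact (Nat.Prime 2) := ⟨Nat.prime_two⟩
  have hxx := F.fd.sq x hx
  -- adjoin `x`
  let z : Subgroup.centralizer ({x} : Set G) := ⟨x, Subgroup.mem_centralizer_singleton_iff.2 rfl⟩
  have hz : z ∈ Subgroup.center (Subgroup.centralizer ({x} : Set G)) := by
    rw [Subgroup.mem_center_iff]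
    intro c
    exact Subtype.ext (Subgroup.mem_centralizer_singleton_iff.1 c.2)
  have hzn : (Subgroup.zpowers z).Normal := by
    refine ⟨fun n hn c => ?_⟩
    obtain ⟨k, rfl⟩ := hn
    have h3 : c * z ^ k * c⁻¹ = z ^ k := by
      rw [Subgroup.mem_center_iff.1 ((Subgroup.center _).zpow_mem hz k) c, mul_inv_cancel_right]
    show c * z ^ k * c⁻¹ ∈ _
    rw [h3]
    exact ⟨k, rfl⟩
  have hz2 : IsPGroup 2 (Subgroup.zpowers z) := by
    have h3 : z ^ 2 ^ 1 = 1 := Subtype.ext (by
      show x ^ 2 ^ 1 = 1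
      rw [pow_one, pow_two, hxx])
    rintro ⟨_, k, rfl⟩
    refine ⟨1, Subtype.ext ?_⟩
    show (z ^ k) ^ 2 ^ 1 = 1
    rw [← zpow_natCast, ← zpow_mul, mul_comm, zpow_mul, zpow_natCast, h3, one_zpow]
  have hPz : IsPGroup 2 (P ⊔ Subgroup.zpowers z : Subgroup _) := h2.to_sup_of_normal_right hz2
  have hPn : (P ⊔ Subgroup.zpowers z).Normal := by
    have := hn
    have := hzn
    infer_instance
  rcases mem_or_of_centralizer F hCL hx g.2 with h3 | h3
  · exact cases_of_mem_HH F hθ hx FE hn h2 hg h3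
  · have h4 : g * z ∈ P ⊔ Subgroup.zpowers z :=
      mul_mem (Subgroup.mem_sup_left hg) (Subgroup.mem_sup_right (Subgroup.mem_zpowers z))
    rcases cases_of_mem_HH F hθ hx FE hPn hPz h4 h3 with h5 | h5
    · right
      have h6 : (g : G) * x = 1 := h5
      calc (g : G) = g * x * x := by rw [mul_assoc, hxx, mul_one]
        _ = x := by rw [h6, one_mul]
    · left
      have h6 : (g : G) * x = x := h5
      exact mul_eq_right.1 h6

include F hθ hCL hx FE in
/-- `C(x)` is not of characteristic 2 -/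
theorem not_charTwo {y : G} (hy : y ∈ Loc D x)
    (h2 : IsOfCharacteristicTwo (Subgroup.centralizer ({x} : Set G))) : False := by
  have hP2 : IsPGroup 2 (Cfsg.pCore 2 (Subgroup.centralizer ({x} : Set G))) :=
    Cfsg.Agent.OddOrderLocal.PLengthOne.isPGroup_pCore 2
  have hPn : (Cfsg.pCore 2 (Subgroup.centralizer ({x} : Set G))).Normal := Cfsg.Agent.Lib.Cores.pCore_normal 2
  have hc : ∀ g ∈ Cfsg.pCore 2 (Subgroup.centralizer ({x} : Set G)), (g : G) = 1 ∨ (g : G) = x := fun g hg =>
    core_cases F hθ hCL hx FE hPn hP2 hg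
  have hyC : y ∈ Subgroup.centralizer ({x} : Set G) := Subgroup.mem_centralizer_singleton_iff.2 hy.2.2.symm.eq
  have h3 : (⟨y, hyC⟩ : Subgroup.centralizer ({x} : Set G)) ∈
      Subgroup.centralizer ((Cfsg.pCore 2 (Subgroup.centralizer ({x} : Set G)) :
        Subgroup (Subgroup.centralizer ({x} : Set G))) : Set (Subgroup.centralizer ({x} : Set G))) := by
    rw [Subgroup.mem_centralizer_iff]
    intro g hg
    apply Subtype.ext
    show (g : G) * y = y * (g : G)
    rcases hc g hg with h4 | h4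
    · rw [h4, one_mul, mul_one]
    · rw [h4]; exact hy.2.2.eq
  rcases hc _ (h2 h3) with h4 | h4
  · exact F.fd.ne_one y hy.1 h4
  · exact hy.2.1 h4

end

/-- **Type `T6`.** -/
theorem not_charTwo_six [Finite G] (F : FGroup D) (h : N6 D) {x : G} (hx : x ∈ D)
    (h2 : IsOfCharacteristicTwo (Subgroup.centralizer ({x} : Set G))) : False := by
  have R := rk_of_FGroup F
  have hT := tset_of_fdata R.fd
  obtain ⟨y, hy, hxy, hc⟩ := R.exPerp x hx
  exact not_charTwo F (theta_N6 R.fd subset_rfl hT h) (cl_six F h) hx (inherit_N6 F h hx)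
    (y := y) ⟨hy, hxy, hc⟩ h2

/-- **Type `T7`.** -/
theorem not_charTwo_seven [Finite G] (F : FGroup D) (h : N7 D) {x : G} (hx : x ∈ D)
    (h2 : IsOfCharacteristicTwo (Subgroup.centralizer ({x} : Set G))) : False := by
  have R := rk_of_FGroup F
  have hT := tset_of_fdata R.fd
  obtain ⟨y, hy, hxy, hc⟩ := R.exPerp x hx
  exact not_charTwo F (theta_N7 R.fd subset_rfl hT h) (cl_seven F h) hx (inherit_N7 F h hx)
    (y := y) ⟨hy, hxy, hc⟩ h2

end Cfsg.Agent.TSpIso.CharTwo
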